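import Cfsg.Agent.H100.Ppd.Basic
import Cfsg.Agent.H912.MultChar
import Cfsg.Agent.ClassicalGeometry.AutPSL.Main
import Cfsg.Agent.H166.FieldAut

/-!
# TEAM PPD (S5948), row PSL in cross characteristic (task 2406, helper270 for helper100)

`row_psl`: no row of TEAM PPD has socle `PSL_N(s)`, `N ≥ 3`, `s ≥ 3`, in cross characteristic.
-/

set_option autoImplicit false

universe u

namespace Cfsg.Agent.H270.Ppd

open Cfsg Cfsg.Agent.H100.Ppd Cfsg.Agent.H915.LD Finset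

/-- `(s ^ j - 1) / (s - 1)` -/
def rep (s j : ℕ) : ℕ := ∑ i ∈ range j, s ^ i

theorem rep_succ (s j : ℕ) : rep s (j + 1) = rep s j + s ^ j := Finset.sum_range_succ _ _

theorem rep_mul {s : ℕ} (hs : 1 ≤ s) (j : ℕ) : rep s j * (s - 1) = s ^ j - 1 := by
  induction j with
  | zero => simp [rep]
  | succ j ih =>
    rw [rep_succ, add_mul, ih, Nat.mul_sub, mul_one, ← pow_succ]
    have h1 : 1 ≤ s ^ j := Nat.one_le_pow _ _ hs
    have h2 : s ^ j ≤ s ^ (j + 1) := Nat.pow_le_pow_right hs (Nat.le_succ j)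
    omega

theorem two_rep_lt {s : ℕ} (hs : 3 ≤ s) (j : ℕ) : 2 * rep s j < s ^ j := by
  have h1 := rep_mul (s := s) (by omega) j
  have h2 : rep s j * 2 ≤ rep s j * (s - 1) := Nat.mul_le_mul_left _ (by omega)
  have h3 : 1 ≤ s ^ j := Nat.one_le_pow _ _ (by omega)
  omega

theorem rep_pos {s j : ℕ} (hs : 1 ≤ s) (hj : 1 ≤ j) : 0 < rep s j := by
  obtain ⟨i, rfl⟩ := Nat.exists_eq_add_of_le' hj
  rw [rep_succ]
  have : 0 < s ^ i := pow_pos (by omega) i
  omega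

/-- The prime divisors `r₀ > s ^ (N - 1) / 2` of `2 f |GL_N(s)|`. -/
structure Big (s N k r₀ : ℕ) : Prop where
  three : 3 ≤ s
  le : s ^ (N - 1) ≤ 2 * k
  N3 : 3 ≤ N
  prime : r₀.Prime
  lt : k + 1 ≤ r₀

namespace Big

variable {s N k r₀ : ℕ} (h : Big s N k r₀)
include h

theorem sq_le : s * 3 ≤ 2 * k := by
  have h1 : s ^ 2 ≤ s ^ (N - 1) := Nat.pow_le_pow_right (by have := h.three; omega) (by have := h.N3; omega)
  have h2 := h.le
  have h3 : s * 3 ≤ s * s := Nat.mul_le_mul_left _ h.three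
  rw [pow_two] at h1
  omega

theorem five_le : 6 ≤ r₀ := by
  have h1 := h.sq_le
  have h2 := h.three
  have h3 := h.lt
  omega

theorem s_lt : s < r₀ := by
  have h1 := h.sq_le
  have h2 := h.three
  have h3 := h.lt
  omega

theorem cop_lt {x : ℕ} (h0 : 0 < x) (h1 : x < r₀) : Nat.Coprime r₀ x :=
  (Nat.Prime.coprime_iff_not_dvd h.prime).2 fun hd => absurd (Nat.le_of_dvd h0 hd) (by omega)

theorem cop_sub {j : ℕ} (hj : 1 ≤ j) (hjN : j < N) : Nat.Coprime r₀ (s ^ j - 1) := by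
  have hs := h.three
  rw [← rep_mul (by omega)]
  refine Nat.Coprime.mul_right (h.cop_lt (rep_pos (by omega) hj) ?_) (h.cop_lt (by omega) ?_)
  · have h1 := two_rep_lt hs j
    have h2 : s ^ j ≤ s ^ (N - 1) := Nat.pow_le_pow_right (by omega) (by omega)
    have h3 := h.le
    have h4 := h.lt
    omega
  · have := h.s_lt
    omega

/-- A power of `r₀` dividing `2 f |GL_N(s)|` divides `(s ^ N - 1) / (s - 1)`. -/
theorem dvd_rep {f : ℕ} (hf0 : 0 < f) (hf : f < s) {c : ℕ} (hc : ∀ ℓ, ℓ.Prime → ℓ ∣ c → Big s N k ℓ)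
    (hd : c ∣ 2 * (f * ∏ i ∈ range N, (s ^ N - s ^ i))) : c ∣ rep s N := by
  have hs := h.three
  have hcop : ∀ x : ℕ, (∀ ℓ, Big s N k ℓ → Nat.Coprime ℓ x) → Nat.Coprime c x := by
    intro x hx
    rw [Nat.coprime_iff_gcd_eq_one]
    by_contra hne
    obtain ⟨ℓ, hℓ, hd⟩ := Nat.exists_prime_and_dvd hne
    have h1 := hc ℓ hℓ (hd.trans (Nat.gcd_dvd_left _ _))
    have h2 := hx ℓ h1
    exact (Nat.Prime.coprime_iff_not_dvd hℓ).1 h2 (hd.trans (Nat.gcd_dvd_right _ _))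
  have h1 : Nat.Coprime c 2 := hcop 2 fun ℓ hℓ => hℓ.cop_lt (by omega) (by have := hℓ.five_le; omega)
  have h2 : Nat.Coprime c f := hcop f fun ℓ hℓ => hℓ.cop_lt hf0 (by have := hℓ.s_lt; omega)
  have h3 := h2.dvd_of_dvd_mul_left (h1.dvd_of_dvd_mul_left hd)
  obtain ⟨M, rfl⟩ := Nat.exists_eq_add_of_le' (show 1 ≤ N by have := h.N3; omega)
  rw [Finset.prod_range_succ'] at h3
  have h4 : Nat.Coprime c (∏ i ∈ range M, (s ^ (M + 1) - s ^ (i + 1))) := by
    refine Nat.Coprime.prod_right fun i hi => hcop _ fun ℓ hℓ => ?_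
    rw [mem_range] at hi
    have h5 : s ^ (M + 1) - s ^ (i + 1) = s ^ (i + 1) * (s ^ (M - i) - 1) := by
      rw [Nat.mul_sub, mul_one, ← pow_add]
      congr 2
      omega
    rw [h5]
    exact Nat.Coprime.mul_right ((hℓ.cop_lt (by omega) hℓ.s_lt).pow_right _) (hℓ.cop_sub (by omega) (by omega))
  have h5 := h4.dvd_of_dvd_mul_left h3
  rw [pow_zero, ← rep_mul (by omega)] at h5
  have h6 : Nat.Coprime c (s - 1) := hcop _ fun ℓ hℓ => hℓ.cop_lt (by omega) (by have := hℓ.s_lt; omega)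
  exact h6.dvd_of_dvd_mul_right h5

theorem rep_lt : rep s N < 3 * k := by
  obtain ⟨M, rfl⟩ := Nat.exists_eq_add_of_le' (show 1 ≤ N by have := h.N3; omega)
  rw [rep_succ]
  have h1 := two_rep_lt h.three M
  have h2 := h.le
  rw [Nat.add_sub_cancel] at h2
  omega

end Big

/-- The numeric part: `Row.kill` applies to `2 f |GL_N(s)|`. -/
theorem big_kill {s N k f : ℕ} (hs : 3 ≤ s) (hN : 3 ≤ N) (hk : s ^ (N - 1) ≤ 2 * k) (hf0 : 0 < f) (hf : f < s)
    {r₀ : ℕ} (hr₀ : r₀.Prime) (hd : r₀ ∣ 2 * (f * ∏ i ∈ range N, (s ^ N - s ^ i))) (hkr : k ∣ r₀ - 1)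
    (hle : k + 1 ≤ r₀) :
    r₀ ≤ 2 * k + 1 ∧
    (∀ r, r.Prime → r ∣ 2 * (f * ∏ i ∈ range N, (s ^ N - s ^ i)) → k ∣ r - 1 → k + 1 ≤ r → r = r₀) ∧
    ¬ r₀ ^ 2 ∣ 2 * (f * ∏ i ∈ range N, (s ^ N - s ^ i)) := by
  have h : Big s N k r₀ := ⟨hs, hk, hN, hr₀, hle⟩
  have hlt := h.rep_lt
  have hpos : 0 < rep s N := rep_pos (by omega) (by omega)
  have h6 := h.five_le
  refine ⟨?_, ?_, ?_⟩
  · have h1 := h.dvd_rep hf0 hf (c := r₀) (fun ℓ hℓ hd => by rwa [(Nat.prime_dvd_prime_iff_eq hℓ hr₀).1 hd]) hd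
    have h2 := Nat.le_of_dvd hpos h1
    obtain ⟨c, hc⟩ := hkr
    have h3 : c < 3 := by
      by_contra hcon
      have h4 : k * 3 ≤ k * c := Nat.mul_le_mul_left _ (by omega)
      omega
    have h4 : k * c ≤ k * 2 := Nat.mul_le_mul_left _ (by omega)
    omega
  · intro r hr hrd hkr' hle'
    by_contra hne
    have h' : Big s N k r := ⟨hs, hk, hN, hr, hle'⟩
    have h1 := h.dvd_rep hf0 hf (c := r₀ * r) (fun ℓ hℓ hd => by
      rcases (Nat.Prime.dvd_mul hℓ).1 hd with hd | hd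
      · rwa [(Nat.prime_dvd_prime_iff_eq hℓ hr₀).1 hd]
      · rwa [(Nat.prime_dvd_prime_iff_eq hℓ hr).1 hd])
      (Nat.Coprime.mul_dvd_of_dvd_of_dvd ((Nat.coprime_primes hr₀ hr).2 (Ne.symm hne)) hd hrd)
    have h2 := Nat.le_of_dvd hpos h1
    have h3 : 6 * r ≤ r₀ * r := Nat.mul_le_mul_right _ h6
    omega
  · intro hsq
    have h1 := h.dvd_rep hf0 hf (c := r₀ ^ 2) (fun ℓ hℓ hd => by
      rwa [(Nat.prime_dvd_prime_iff_eq hℓ hr₀).1 (hℓ.dvd_of_dvd_pow hd)]) hsq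
    have h2 := Nat.le_of_dvd hpos h1
    rw [pow_two] at h2
    have h3 : 6 * r₀ ≤ r₀ * r₀ := Nat.mul_le_mul_right _ h6
    omega

/-- `|Aut PSL_N(s)|` divides `2 f |GL_N(s)|`. -/
theorem card_aut_dvd {N r f : ℕ} [Fact r.Prime] {K : Type} [Field K] [Fintype K] [CharP K r]
    (hf : Fintype.card K = r ^ f) (hN : 3 ≤ N) :
    Nat.card (MulAut (Matrix.ProjectiveSpecialLinearGroup (Fin N) K)) ∣
      2 * (f * ∏ i ∈ range N, (Fintype.card K ^ N - Fintype.card K ^ i)) := by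
  rw [ClassicalGeometry.AutPSL.Main.card_three r hN, H166.FieldAut.card_ringAut r f hf, mul_comm (Nat.card _) f]
  refine mul_dvd_mul_left _ (mul_dvd_mul_left _ ?_)
  have h1 : Nat.card (GL (Fin N) K) = ∏ i ∈ range N, (Fintype.card K ^ N - Fintype.card K ^ i) := by
    rw [Matrix.card_GL_field, Fin.prod_univ_eq_prod_range (fun i => Fintype.card K ^ N - Fintype.card K ^ i) N]
  rw [← h1]
  exact Subgroup.card_quotient_dvd_card _

variable {n : ℕ} {F : Type u} [Field F] [Finite F] {k m : ℕ} {P : Subgroup (GL (Fin n) F)}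

theorem row_psl (h : Row k m P) {r : ℕ} (hr : r.Prime) (hrF : (r : F) ≠ 0) {K : Type} [Field K] [Fintype K]
    [CharP K r] {N : ℕ} (hN : 3 ≤ N) (hs : 3 ≤ Fintype.card K)
    (e : Soc P ≃* Matrix.ProjectiveSpecialLinearGroup (Fin N) K) : False := by
  have : Fact r.Prime := ⟨hr⟩
  obtain ⟨f, hf1, hf⟩ := FiniteField.card K r
  have hf0 : 0 < (f : ℕ) := f.pos
  have hfs : (f : ℕ) < Fintype.card K := by
    rw [hf]
    exact Nat.lt_pow_self hr.one_lt
  have hA := card_aut_dvd (N := N) hf hN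
  by_cases hexc : N = 3 ∧ Fintype.card K = 4
  · obtain ⟨rfl, h4⟩ := hexc
    have hf2 : (f : ℕ) = 2 := by
      have h1 : r ∣ 2 ^ 2 := by
        have := H912.Bd.char_dvd_card (r := r) K
        rwa [h4] at this
      have h2 : r = 2 := H912.Bd.eq_of_dvd_prime_pow hr Nat.prime_two h1
      rw [h2, h4] at hf
      exact (Nat.pow_right_injective (le_refl 2) (show 2 ^ 2 = 2 ^ (f : ℕ) from hf)).symm
    rw [h4, hf2] at hA
    have hval : 2 * (2 * ∏ i ∈ range 3, (4 ^ 3 - 4 ^ i)) = 725760 := by decide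
    rw [hval] at hA
    have h6 := h.num.six_le
    refine h.kill e hA (r₀ := 7) (by omega) ?_ (by norm_num)
    intro r' hr' hd _ hle
    have h7 : r' ∣ 2 ^ 8 * 3 ^ 4 * 5 * 7 := by norm_num; exact hd
    rcases (Nat.Prime.dvd_mul hr').1 h7 with h7 | h7
    · exfalso
      rcases (Nat.Prime.dvd_mul hr').1 h7 with h7 | h7
      · rcases (Nat.Prime.dvd_mul hr').1 h7 with h7 | h7
        · have := Nat.le_of_dvd (by norm_num) (hr'.dvd_of_dvd_pow h7)
          omega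
        · have := Nat.le_of_dvd (by norm_num) (hr'.dvd_of_dvd_pow h7)
          omega
      · have := Nat.le_of_dvd (by norm_num) h7
        omega
    · exact (Nat.prime_dvd_prime_iff_eq hr' (by norm_num)).1 h7
  · have hno : H912.Bd.NoR.{u} r (Matrix.ProjectiveSpecialLinearGroup (Fin N) K) := by
      refine H912.Bd.NoR.of_cyclic (S2086.result (F := K) rfl N (by omega) (by omega) ?_)
        (H912.Bd.coprime_gcd_sub hr Fintype.card_pos (H912.Bd.char_dvd_card K))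
      intro hmem
      simp only [Set.mem_insert_iff, Set.mem_singleton_iff, Prod.mk.injEq] at hmem
      omega
    have hpr := H912.Bd.PR.of_noR hno P h.core.perfect e
    have hle : Fintype.card K ^ (N - 1) - 1 ≤ n := H912.Bd.bd_psl (F := F) hr hrF hN inferInstance n hpr
    have hk : Fintype.card K ^ (N - 1) ≤ 2 * k := by
      have := h.num.nlt
      omega
    obtain ⟨r₀, hr₀, hrm⟩ := h.num.exists_prime
    obtain ⟨h1, h2, h3⟩ := big_kill hs hN hk hf0 hfs hr₀ ((hrm.trans (h.dvd_card e)).trans hA)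
      (h.num.dvd_sub_one hr₀ hrm) (h.num.succ_le hr₀ hrm)
    exact h.kill e hA h1 h2 h3

end Cfsg.Agent.H270.Ppd
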